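import Groth.Agent.Lib.SymCurve14.Phi
import Groth.Agent.Lib.EffCartier.Dense
import Groth.Agent.Lib.AlgSpCartier.SchemeDescent

/-!
# The diagonals of a fibre power of a smooth curve are effective Cartier divisors
-/

set_option autoImplicit false
set_option linter.style.haveILetI false
set_option backward.isDefEq.respectTransparency.types false

universe u

open CategoryTheory CategoryTheory.Limits AlgebraicGeometry

namespace Groth.Agent.SymCurve14

variable {X S : Scheme.{u}} (f : X ⟶ S) [IsSeparated f] [SmoothOfRelativeDimension 1 f]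

theorem exists_diag {n : ℕ} (a b : Fin n) (hab : a ≠ b) :
    ∃ E : (SymProd.fibPow f n).IdealSheafData, BlowUp.IsEffCartierIdeal E ∧
      ∀ (K : Type u) [Field K] (ξ : Spec (CommRingCat.of K) ⟶ SymProd.fibPow f n),
        ξ ≫ WidePullback.π (fun _ : Fin n => f) a =
          ξ ≫ WidePullback.π (fun _ : Fin n => f) b →
        ξ (IsLocalRing.closedPoint K) ∈ (E.support : Set (SymProd.fibPow f n)) := by
  cases n with
  | zero => exact a.elim0
  | succ m =>
    let τ : Equiv.Perm (Fin (m + 1)) := Equiv.swap b (Fin.last m)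
    have hτb : τ b = Fin.last m := Equiv.swap_apply_left _ _
    obtain ⟨i, hi⟩ : ∃ i : Fin m, i.castSucc = τ a :=
      ⟨(τ a).castPred fun h => hab (τ.injective (h.trans hτb.symm)), Fin.castSucc_castPred _ _⟩
    have hta : τ.symm i.castSucc = a := by rw [hi, Equiv.symm_apply_apply]
    have htb : τ.symm (Fin.last m) = b := by rw [← hτb, Equiv.symm_apply_apply]
    haveI hiso : IsIso (SymProd.permHom f (m + 1) τ) :=
      inferInstanceAs (IsIso (SymProd.permIso f (m + 1) τ).hom)
    let e : SymProd.fibPow f (m + 1) ⟶ PicF.XT f (powOver f m) :=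
      SymProd.permHom f (m + 1) τ ≫ (isPullback_projInit f m).isoPullback.hom
    haveI : IsIso e := inferInstanceAs (IsIso (_ ≫ _))
    let σ : (powOver f m).left ⟶ PicF.XT f (powOver f m) :=
      pullback.lift (WidePullback.π (fun _ : Fin m => f) i) (𝟙 (powOver f m).left)
        (by simpa using pow_π_comp f m i)
    haveI : IsClosedImmersion σ :=
      CurveCartier25.isClosedImmersion_graph f (powOver f m) _ (pow_π_comp f m i)
    haveI := CurveCartier25.smooth_XTproj f (powOver f m)
    have hσ1 := CurveCartier25.isFinLocFreeOfDeg_one_section (PicF.XTproj f (powOver f m)) σ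
      (pullback.lift_snd _ _ _)
    have hK : BlowUp.IsEffCartierIdeal σ.ker :=
      CurveCartier25.isEffCartierIdeal_of_isFinLocFree (PicF.XTproj f (powOver f m)) σ.ker
        hσ1.1.1 hσ1.1.2.1 hσ1.1.2.2
    refine ⟨σ.ker.comap e, AlgSpCartier.isEffCartierIdeal_comap_of_flat e hK, fun K _ ξ hy => ?_⟩
    rw [Scheme.IdealSheafData.support_comap]
    show e (ξ (IsLocalRing.closedPoint K)) ∈ (σ.ker.support : Set _)
    have hξ : ξ ≫ e =
        (ξ ≫
          SymProd.permHom f (m + 1) τ ≫ projInit f m) ≫ σ := by
      have h1 : (isPullback_projInit f m).isoPullback.hom ≫ pullback.fst f (powOver f m).hom =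
          WidePullback.π (fun _ : Fin (m + 1) => f) (Fin.last m) :=
        IsPullback.isoPullback_hom_fst _
      have h2 : (isPullback_projInit f m).isoPullback.hom ≫ pullback.snd f (powOver f m).hom =
          projInit f m := IsPullback.isoPullback_hom_snd _
      apply pullback.hom_ext
      · simp only [e, σ, Category.assoc, pullback.lift_fst]
        erw [h1, SymProd.permHom_π, htb, projInit_π, SymProd.permHom_π, hta]
        exact hy.symm
      · simp only [e, σ, Category.assoc, pullback.lift_snd]
        erw [h2, Category.comp_id]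
    have := congrArg (fun k : Spec (CommRingCat.of K) ⟶ PicF.XT f (powOver f m) =>
      k (IsLocalRing.closedPoint K)) hξ
    simp only [Scheme.Hom.comp_apply] at this
    rw [this]
    exact σ.range_subset_ker_support ⟨_, rfl⟩

/-- Off an effective Cartier divisor the coordinates of a point of the fibre power are distinct. -/
theorem exists_diag_all (n : ℕ) :
    ∃ J : (SymProd.fibPow f n).IdealSheafData, BlowUp.IsEffCartierIdeal J ∧
      ∀ (K : Type u) [Field K] (ξ : Spec (CommRingCat.of K) ⟶ SymProd.fibPow f n),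
        ξ (IsLocalRing.closedPoint K) ∉ (J.support : Set (SymProd.fibPow f n)) →
        ∀ a b : Fin n, a ≠ b →
          ξ ≫ WidePullback.π (fun _ : Fin n => f) a ≠ ξ ≫ WidePullback.π (fun _ : Fin n => f) b := by
  classical
  suffices H : ∀ s : Finset (Fin n × Fin n), ∃ J : (SymProd.fibPow f n).IdealSheafData,
      BlowUp.IsEffCartierIdeal J ∧ ∀ (K : Type u) [Field K] (ξ : Spec (CommRingCat.of K) ⟶ SymProd.fibPow f n),
        ξ (IsLocalRing.closedPoint K) ∉ (J.support : Set (SymProd.fibPow f n)) →
        ∀ p ∈ s, p.1 ≠ p.2 →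
        ξ ≫ WidePullback.π (fun _ : Fin n => f) p.1 ≠ ξ ≫ WidePullback.π (fun _ : Fin n => f) p.2 by
    obtain ⟨J, hJ, h⟩ := H Finset.univ
    exact ⟨J, hJ, fun K _ ξ hy a b hab => h K ξ hy (a, b) (Finset.mem_univ _) hab⟩
  intro s
  induction s using Finset.induction_on with
  | empty => exact ⟨⊤, EffCartier.isEffCartierIdeal_top, fun K _ ξ _ p hp => absurd hp (by simp)⟩
  | insert p s _ ih =>
    obtain ⟨J, hJ, h⟩ := ih
    by_cases hp : p.1 = p.2
    · refine ⟨J, hJ, fun K _ ξ hy q hq hne => ?_⟩
      rcases Finset.mem_insert.1 hq with rfl | hq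
      · exact absurd hp hne
      · exact h K ξ hy q hq hne
    · obtain ⟨E, hE, hE'⟩ := exists_diag f p.1 p.2 hp
      refine ⟨E * J, EffCartier.isEffCartierIdeal_mul hE hJ, fun K _ ξ hy q hq hne => ?_⟩
      rw [Scheme.IdealSheafData.support_mul] at hy
      rcases Finset.mem_insert.1 hq with rfl | hq
      · exact fun he => hy (Or.inl (hE' K ξ he))
      · exact h K ξ (fun hJy => hy (Or.inr hJy)) q hq hne

end Groth.Agent.SymCurve14
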