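import Groth.Agent.Lib.SymCurve14.Algebra
import Groth.Agent.Lib.SymCurve14.Diag
import Groth.Agent.Lib.IsQuot25.Local
import Groth.Agent.Lib.Pinch4.Std

/-!
# The classifying map is the quotient by the symmetric group
-/

set_option autoImplicit false
set_option linter.style.haveILetI false
set_option backward.isDefEq.respectTransparency.types false

universe u

open CategoryTheory CategoryTheory.Limits AlgebraicGeometry TopologicalSpace

namespace Groth.Agent.SymCurve14

/-- A section killed locally off an effective Cartier divisor is zero. -/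
theorem eq_zero_of_local {P : Scheme.{u}} {J : P.IdealSheafData} (hJ : BlowUp.IsEffCartierIdeal J)
    {V : P.Opens} (hV : IsAffineOpen V) (b : Γ(P, V))
    (hb : ∀ q : PrimeSpectrum Γ(P, V), hV.fromSpec q ∉ (J.support : Set P) → ∃ u ∉ q.asIdeal, u * b = 0) :
    b = 0 := by
  haveI := EffCartier.dominant_cmpl hJ
  haveI := EffCartier.quasiCompact_interior hJ
  refine (EffCartier.cmpl J).ι.app_injective _ ?_
  rw [map_zero]
  have hloc : ∀ (O : P.Opens) (hO : O ≤ V), (∀ z ∈ O, z ∈ EffCartier.cmpl J) →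
      P.presheaf.map (homOfLE hO).op b = 0 := by
    intro O hO hOc
    choose u hu hub using fun z : O => hb (hV.primeIdealOf ⟨z.1, hO z.2⟩)
      (by rw [hV.fromSpec_primeIdealOf]; exact hOc z.1 z.2)
    have hmem : ∀ z : O, z.1 ∈ P.basicOpen (u z) := fun z => by
      have h1 : hV.primeIdealOf ⟨z.1, hO z.2⟩ ∈ hV.fromSpec ⁻¹ᵁ P.basicOpen (u z) := by
        rw [hV.fromSpec_preimage_basicOpen]
        exact hu z
      have h2 : hV.fromSpec (hV.primeIdealOf ⟨z.1, hO z.2⟩) ∈ P.basicOpen (u z) := h1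
      rwa [hV.fromSpec_primeIdealOf] at h2
    refine TopCat.Sheaf.eq_of_locally_eq' P.sheaf (fun z : O => O ⊓ P.basicOpen (u z)) O
      (fun z => homOfLE inf_le_left) (fun z hz => Opens.mem_iSup.2 ⟨⟨z, hz⟩, hz, hmem ⟨z, hz⟩⟩) _ _
      fun z => ?_
    show P.presheaf.map _ (P.presheaf.map _ b) = P.presheaf.map (homOfLE inf_le_left).op 0
    rw [map_zero, ← CommRingCat.comp_apply, ← P.presheaf.map_comp, ← op_comp, homOfLE_comp]
    have hle : O ⊓ P.basicOpen (u z) ≤ V := inf_le_left.trans hO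
    have hunit : IsUnit (P.presheaf.map (homOfLE hle).op (u z)) := by
      rw [Subsingleton.elim (homOfLE hle)
        (homOfLE inf_le_right ≫ homOfLE (P.basicOpen_le (u z))), op_comp, Functor.map_comp]
      exact IsUnit.map (P.presheaf.map (homOfLE inf_le_right).op).hom
        (RingedSpace.isUnit_res_basicOpen _ _)
    refine hunit.mul_right_eq_zero.1 ?_
    rw [← map_mul, hub z, map_zero]
  rw [Scheme.Opens.ι_app]
  exact hloc _ _ (fun z ⟨w, _, hw⟩ => hw ▸ w.2)

/-- Two self-maps preserving an affine open which differ at a field-valued point differ on sections. -/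
theorem exists_notMem_of_ne {P : Scheme.{u}} (J : Set P) {V : P.Opens} (hV : IsAffineOpen V)
    (a a' : P ⟶ P) (e : V ≤ a ⁻¹ᵁ V) (e' : V ≤ a' ⁻¹ᵁ V) (q : PrimeSpectrum Γ(P, V))
    (hq : hV.fromSpec q ∉ J)
    (hne : ∀ (K : Type u) [Field K] (ξ : Spec (CommRingCat.of K) ⟶ P),
      ξ (IsLocalRing.closedPoint K) ∉ J → ξ ≫ a ≠ ξ ≫ a') :
    ∃ b, a.appLE V V e b - a'.appLE V V e' b ∉ q.asIdeal := by
  by_contra hcon
  push Not at hcon
  have hpt : (Spec.map (CommRingCat.ofHom (algebraMap Γ(P, V) q.asIdeal.ResidueField)) ≫ hV.fromSpec)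
      (IsLocalRing.closedPoint q.asIdeal.ResidueField) = hV.fromSpec q := by
    show hV.fromSpec (Spec.map (CommRingCat.ofHom (algebraMap Γ(P, V) q.asIdeal.ResidueField))
      (IsLocalRing.closedPoint q.asIdeal.ResidueField)) = _
    refine congrArg _ (PrimeSpectrum.ext ?_)
    show (IsLocalRing.maximalIdeal q.asIdeal.ResidueField).comap
      (algebraMap Γ(P, V) q.asIdeal.ResidueField) = q.asIdeal
    rw [IsLocalRing.maximalIdeal_eq_bot, ← RingHom.ker_eq_comap_bot, Ideal.ker_algebraMap_residueField]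
  refine hne q.asIdeal.ResidueField _ (by rw [hpt]; exact hq) ?_
  have hring : a.appLE V V e ≫ CommRingCat.ofHom (algebraMap Γ(P, V) q.asIdeal.ResidueField) =
      a'.appLE V V e' ≫ CommRingCat.ofHom (algebraMap Γ(P, V) q.asIdeal.ResidueField) := by
    ext b
    show algebraMap Γ(P, V) q.asIdeal.ResidueField (a.appLE V V e b) =
      algebraMap Γ(P, V) q.asIdeal.ResidueField (a'.appLE V V e' b)
    rw [← sub_eq_zero, ← map_sub, Ideal.algebraMap_residueField_eq_zero]
    exact hcon b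
  rw [Category.assoc, Category.assoc, ← IsAffineOpen.SpecMap_appLE_fromSpec a hV hV e,
    ← IsAffineOpen.SpecMap_appLE_fromSpec a' hV hV e', ← Category.assoc, ← Spec.map_comp, hring,
    Spec.map_comp, Category.assoc]

/-- The section map of a finite locally free morphism makes a finite projective algebra of the same rank. -/
theorem app_props {P H : Scheme.{u}} (Φ : P ⟶ H) {N : ℕ} (hΦ : Mor2.IsFinLocFreeOfDeg N Φ) (hN : 0 < N)
    {U : H.Opens} (hU : IsAffineOpen U) :
    letI := (Φ.app U).hom.toAlgebra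
    Module.Finite Γ(H, U) Γ(P, Φ ⁻¹ᵁ U) ∧ Module.Projective Γ(H, U) Γ(P, Φ ⁻¹ᵁ U) ∧
      Module.FaithfullyFlat Γ(H, U) Γ(P, Φ ⁻¹ᵁ U) ∧
      ∀ p : PrimeSpectrum Γ(H, U), Module.rankAtStalk Γ(P, Φ ⁻¹ᵁ U) p = N := by
  haveI : IsFinite Φ := hΦ.1.1
  haveI : Flat Φ := hΦ.1.2.1
  haveI : LocallyOfFinitePresentation Φ := hΦ.1.2.2
  have hV : IsAffineOpen (Φ ⁻¹ᵁ U) := hU.preimage Φ
  letI : Algebra Γ(H, U) Γ(P, Φ ⁻¹ᵁ U) := (Φ.app U).hom.toAlgebra
  haveI : Module.Finite Γ(H, U) Γ(P, Φ ⁻¹ᵁ U) := Φ.finite_app U hU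
  haveI : Module.Flat Γ(H, U) Γ(P, Φ ⁻¹ᵁ U) := CurveCartier25.flat_app Φ hU hV
  haveI : Algebra.FinitePresentation Γ(H, U) Γ(P, Φ ⁻¹ᵁ U) := by
    have h := HasRingHomProperty.appLE @LocallyOfFinitePresentation Φ inferInstance ⟨U, hU⟩ ⟨_, hV⟩ le_rfl
    rw [← Scheme.Hom.app_eq_appLE] at h
    exact h
  haveI : Module.FinitePresentation Γ(H, U) Γ(P, Φ ⁻¹ᵁ U) :=
    Module.FinitePresentation.of_finite_of_finitePresentation _ _
  have hrk : ∀ p : PrimeSpectrum Γ(H, U), Module.rankAtStalk Γ(P, Φ ⁻¹ᵁ U) p = N := fun p => by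
    obtain ⟨⟨z, hz⟩, rfl⟩ := IsQuot25.primeIdealOf_surjective hU p
    rw [← hΦ.2 z, ← CurveCartier25.finrank_eq_app Φ hU z hz]
    rfl
  exact ⟨inferInstance, Module.Flat.projective_of_finitePresentation,
    Module.FaithfullyFlat.of_comap_surjective
      (PrimeSpectrum.rankAtStalk_pos_iff_comap_surjective.1 fun p => by rw [hrk p]; exact hN), hrk⟩

/-- A finite locally free invariant map of degree the order of the group, whose translates of points
are distinct on a dense open, is the quotient. -/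
theorem isQuot_of_generically_free {P H : Scheme.{u}} {G : Type u} [Group G] [Finite G] (ρ : G →* Aut P)
    (Φ : P ⟶ H) (hinv : ∀ g : G, (ρ g).hom ≫ Φ = Φ) {N : ℕ} (hΦ : Mor2.IsFinLocFreeOfDeg N Φ)
    (hN : Nat.card G = N) (J : P.IdealSheafData) (hJ : BlowUp.IsEffCartierIdeal J)
    (hdist : ∀ (K : Type u) [Field K] (ξ : Spec (CommRingCat.of K) ⟶ P),
      ξ (IsLocalRing.closedPoint K) ∉ (J.support : Set P) →
        ∀ σ τ : G, σ ≠ τ → ξ ≫ (ρ σ).hom ≠ ξ ≫ (ρ τ).hom) :
    SGA1.IsQuot ρ Φ := by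
  have hN0 : 0 < N := hN ▸ Nat.card_pos
  haveI : IsFinite Φ := hΦ.1.1
  haveI : Flat Φ := hΦ.1.2.1
  haveI : Surjective Φ := (Scheme.Hom.one_le_finrank_iff_surjective Φ).1 fun y => by
    rw [hΦ.2 y]; exact hN0
  refine IsQuot25.of_affineCover inferInstance hinv fun y => ?_
  obtain ⟨U, hU, hyU, -⟩ := exists_isAffineOpen_mem_and_subset (show y ∈ (⊤ : H.Opens) from trivial)
  refine ⟨U, hU, hyU, Pinch4.app_injective_of_flat_surjective Φ hU, fun s hs => ?_⟩
  have hV : IsAffineOpen (Φ ⁻¹ᵁ U) := hU.preimage Φ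
  letI : Algebra Γ(H, U) Γ(P, Φ ⁻¹ᵁ U) := (Φ.app U).hom.toAlgebra
  obtain ⟨h1, h2, h3, h4⟩ := app_props Φ hΦ hN0 hU
  let act : G → Γ(P, Φ ⁻¹ᵁ U) →ₐ[Γ(H, U)] Γ(P, Φ ⁻¹ᵁ U) := fun g =>
    { (IsQuot25.actHom hinv U g).hom with
      commutes' := fun a => congr($(IsQuot25.actHom_app hinv U g) a) }
  exact mem_range_of_fixed act (fun p => (h4 p).trans hN.symm) {q | hV.fromSpec q ∉ (J.support : Set P)}
    (fun b hb => eq_zero_of_local hJ hV b hb)
    (fun q hq σ τ hne => exists_notMem_of_ne (J.support : Set P) hV (ρ σ).hom (ρ τ).hom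
      (SGA1.preimage_le_of_inv ρ Φ hinv σ U) (SGA1.preimage_le_of_inv ρ Φ hinv τ U) q hq
      fun K _ ξ hξ => hdist K ξ hξ σ τ hne) s hs

variable {X S : Scheme.{u}} (f : X ⟶ S) [IsSeparated f] [SmoothOfRelativeDimension 1 f]

/-- The classifying map from the fibre power to the Hilbert scheme is the symmetric product. -/
theorem isSymProd_classify (hrep : ∀ e : ℕ, HilbD.Representable f e) (n : ℕ) (H : Over S)
    (Z : HilbD.Obj f n H) (hZ : HilbD.IsUniversal f n H Z) (Φ : powOver f n ⟶ H)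
    (hΦ : HilbD.pull f Φ Z.1 = powIdeal f n) : SymProd.IsSymProd f n Φ.left H.hom := by
  refine ⟨?_, Over.w Φ⟩
  obtain ⟨J, hJ, hJd⟩ := exists_diag_all f n
  refine isQuot_of_generically_free (SymProd.permActU f n) Φ.left
    (fun g => permHom_comp_classify f n hZ Φ hΦ g.down)
    (isFinLocFreeOfDeg_classify f hrep n H Z hZ Φ hΦ)
    (by rw [Nat.card_congr Equiv.ulift, Nat.card_perm, Nat.card_fin]) J hJ
    fun K _ ξ hξ σ τ hne he => ?_
  obtain ⟨i, hi⟩ : ∃ i, σ.down.symm i ≠ τ.down.symm i := by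
    by_contra hc
    push Not at hc
    exact hne (ULift.down_injective (Equiv.symm_bijective.1 (Equiv.ext hc)))
  refine hJd K ξ hξ _ _ hi ?_
  have := congrArg (· ≫ WidePullback.π (fun _ : Fin n => f) i) he
  simpa only [SymProd.permActU_hom, Category.assoc, SymProd.permHom_π] using this

end Groth.Agent.SymCurve14
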