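import Mathlib
import Groth.Agent.Lib.GrpdEt19.Deg

/-!
# Invariants of a finite locally free algebra with an action that is generically simply transitive
-/

set_option autoImplicit false
set_option linter.style.haveILetI false

universe u

open TensorProduct

namespace Groth.Agent.SymCurve14

/-- An element with `x ⊗ 1 = 1 ⊗ x` in a faithfully flat algebra comes from the base. -/
theorem exists_algebraMap_eq {A B : Type u} [CommRing A] [CommRing B] [Algebra A B]
    [Module.FaithfullyFlat A B] (x : B) (h : x ⊗ₜ[A] (1 : B) = (1 : B) ⊗ₜ[A] x) :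
    ∃ r : A, algebraMap A B r = x := by
  let q := (LinearMap.range (Algebra.linearMap A B)).mkQ
  suffices q x = 0 by
    rw [Submodule.mkQ_apply, Submodule.Quotient.mk_eq_zero] at this
    obtain ⟨r, hr⟩ := this
    exact ⟨r, hr⟩
  rw [← Module.FaithfullyFlat.one_tmul_eq_zero_iff (R := A) (A := B)
    (M := B ⧸ LinearMap.range (Algebra.linearMap A B)) (q x)]
  have h1 : q 1 = 0 := (Submodule.Quotient.mk_eq_zero _).2 ⟨1, map_one (algebraMap A B)⟩
  have h2 := congrArg (q.lTensor B) h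
  simp only [LinearMap.lTensor_tmul, h1, TensorProduct.tmul_zero] at h2
  exact h2.symm

variable {A B : Type u} [CommRing A] [CommRing B] [Algebra A B] {G : Type u}
  (act : G → B →ₐ[A] B)

/-- `b ⊗ b' ↦ (b · σ b')_σ`. -/
noncomputable def graphMap : B ⊗[A] B →ₐ[B] (G → B) :=
  Algebra.TensorProduct.lift (Algebra.ofId B (G → B)) (AlgHom.pi act)
    fun _ _ => Commute.all _ _

theorem graphMap_tmul (b b' : B) (σ : G) : graphMap act (b ⊗ₜ[A] b') σ = b * act σ b' := rfl

/-- Kernel elements of `graphMap` vanish near every point where the translates are distinct. -/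
theorem exists_smul_eq_zero [Finite G] [Module.Finite A B] [Module.Projective A B]
    (hrk : ∀ p : PrimeSpectrum A, Module.rankAtStalk B p = Nat.card G)
    (q : PrimeSpectrum B) (hdist : ∀ σ τ : G, σ ≠ τ → ∃ b : B, act σ b - act τ b ∉ q.asIdeal)
    (m : B ⊗[A] B) (hm : graphMap act m = 0) : ∃ u ∉ q.asIdeal, u • m = 0 := by
  classical
  haveI := Fintype.ofFinite G
  let C := Localization.AtPrime q.asIdeal
  have hex : ∀ σ τ : G, ∃ z : B ⊗[A] B,
      σ ≠ τ → graphMap act z τ = 0 ∧ graphMap act z σ ∉ q.asIdeal := fun σ τ => by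
    by_cases h : σ = τ
    · exact ⟨0, fun h' => absurd h h'⟩
    · obtain ⟨b, hb⟩ := hdist σ τ h
      refine ⟨1 ⊗ₜ b - act τ b ⊗ₜ 1, fun _ => ?_⟩
      simp only [map_sub, Pi.sub_apply, graphMap_tmul, one_mul, map_one, mul_one, sub_self]
      exact ⟨trivial, hb⟩
  choose z hz using hex
  let e : G → B ⊗[A] B := fun σ => ∏ τ ∈ Finset.univ.erase σ, z σ τ
  have he0 : ∀ σ τ : G, σ ≠ τ → graphMap act (e σ) τ = 0 := fun σ τ h => by
    simp only [e, map_prod, Finset.prod_apply]
    exact Finset.prod_eq_zero (Finset.mem_erase.2 ⟨Ne.symm h, Finset.mem_univ τ⟩) (hz σ τ h).1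
  have he1 : ∀ σ : G, graphMap act (e σ) σ ∉ q.asIdeal := fun σ hc => by
    simp only [e, map_prod, Finset.prod_apply] at hc
    obtain ⟨τ, hτ, h⟩ := (q.isPrime.prod_mem_iff).1 hc
    exact (hz σ τ (Finset.mem_erase.1 hτ).1.symm).2 h
  let j : (G → B) →ₗ[B] (G → C) := LinearMap.pi fun σ => (Algebra.linearMap B C) ∘ₗ LinearMap.proj σ
  let ψ : C ⊗[B] (B ⊗[A] B) →ₗ[C] (G → C) :=
    LinearMap.liftBaseChange C (j ∘ₗ (graphMap act).toLinearMap)
  have hψ : ∀ (c : C) (x : B ⊗[A] B) (σ : G),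
      ψ (c ⊗ₜ x) σ = c * algebraMap B C (graphMap act x σ) := fun _ _ _ => rfl
  have hunit : ∀ σ : G, IsUnit (algebraMap B C (graphMap act (e σ) σ)) := fun σ =>
    IsLocalization.map_units (M := q.asIdeal.primeCompl) C ⟨_, he1 σ⟩
  have hsurj : Function.Surjective ψ := fun v => by
    refine ⟨∑ σ, (v σ * ↑(hunit σ).unit⁻¹) ⊗ₜ e σ, funext fun τ => ?_⟩
    rw [map_sum, Finset.sum_apply, Finset.sum_eq_single τ]
    · rw [hψ, mul_assoc, IsUnit.val_inv_mul, mul_one]
    · intro σ _ h
      rw [hψ, he0 σ τ h, map_zero, mul_zero]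
    · intro h; exact absurd (Finset.mem_univ τ) h
  have hinj : Function.Injective ψ :=
    GrpdEt19.injective_of_surjective_of_rankAtStalk_eq ψ hsurj fun p => by
      rw [Module.rankAtStalk_baseChange, Module.rankAtStalk_baseChange, hrk,
        Module.rankAtStalk_eq_finrank_of_free, Module.finrank_fintype_fun_eq_card,
        Nat.card_eq_fintype_card]
      rfl
  have h1 : ψ ((1 : C) ⊗ₜ m) = 0 := funext fun σ => by
    rw [hψ, hm, Pi.zero_apply, map_zero, mul_zero]
    rfl
  have h2 : (TensorProduct.mk B C (B ⊗[A] B) 1) m = 0 := hinj (h1.trans (map_zero ψ).symm)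
  haveI : IsLocalizedModule q.asIdeal.primeCompl (TensorProduct.mk B C (B ⊗[A] B) 1) :=
    (isLocalizedModule_iff_isBaseChange q.asIdeal.primeCompl C _).2 (TensorProduct.isBaseChange B _ C)
  obtain ⟨⟨u, hu⟩, hu0⟩ := (IsLocalizedModule.eq_zero_iff q.asIdeal.primeCompl _).1 h2
  exact ⟨u, hu, hu0⟩

/-- Fixed elements come from the base when the translates are distinct on a dense open. -/
theorem mem_range_of_fixed [Finite G] [Module.Finite A B] [Module.Projective A B]
    [Module.FaithfullyFlat A B]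
    (hrk : ∀ p : PrimeSpectrum A, Module.rankAtStalk B p = Nat.card G) (W : Set (PrimeSpectrum B))
    (hdense : ∀ b : B, (∀ q ∈ W, ∃ u ∉ q.asIdeal, u * b = 0) → b = 0)
    (hdist : ∀ q ∈ W, ∀ σ τ : G, σ ≠ τ → ∃ b : B, act σ b - act τ b ∉ q.asIdeal)
    (s : B) (hs : ∀ σ, act σ s = s) : ∃ r : A, algebraMap A B r = s := by
  refine exists_algebraMap_eq s (sub_eq_zero.1 ?_)
  set m := s ⊗ₜ[A] (1 : B) - (1 : B) ⊗ₜ[A] s with hmdef
  have hm : graphMap act m = 0 := funext fun σ => by
    simp [hmdef, graphMap_tmul, hs σ]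
  rw [← Module.forall_dual_apply_eq_zero_iff B m]
  intro φ
  refine hdense _ fun q hq => ?_
  obtain ⟨u, hu, hu0⟩ := exists_smul_eq_zero act hrk q (hdist q hq) m hm
  exact ⟨u, hu, by rw [← smul_eq_mul, ← map_smul, hu0, map_zero]⟩

end Groth.Agent.SymCurve14
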