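import Groth.Agent.Lib.SymCurve14.Quot
import Groth.Agent.Lib.HilbRep25.Cover
import Groth.Agent.Lib.IsQuot25.Desc
import Groth.Agent.Lib.SchImage14.Ker
import Groth.Agent.S1167

/-!
# Symmetric powers of smooth proper curves are Hilbert schemes of points
-/

set_option autoImplicit false
set_option linter.style.haveILetI false
set_option backward.isDefEq.respectTransparency.types false

universe u

open CategoryTheory CategoryTheory.Limits AlgebraicGeometry

namespace Groth.Agent.SymCurve14

variable {C S Y : Scheme.{u}} (f : C ⟶ S) [IsProper f] [SmoothOfRelativeDimension 1 f]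

omit [SmoothOfRelativeDimension 1 f] in
theorem representable (hAF : SymProd.IsAF f) (e : ℕ) : HilbD.Representable f e :=
  HilbRep25.representable_of_fibre_points e fun s x hx => by
    classical
    obtain ⟨U, hU, hmem⟩ := hAF s (Finset.univ.image x) fun y hy => by
      obtain ⟨i, -, rfl⟩ := Finset.mem_image.1 hy
      exact hx i
    exact ⟨U, hU, fun i => hmem _ (Finset.mem_image_of_mem x (Finset.mem_univ i))⟩

/-- A symmetric power of the curve is its Hilbert scheme of points. -/
theorem exists_hilb_iso (hAF : SymProd.IsAF f) (n : ℕ) (q : SymProd.fibPow f n ⟶ Y) (g : Y ⟶ S)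
    (hq : SymProd.IsSymProd f n q g) :
    ∃ (H : Over S) (Z : HilbD.Obj f n H) (Φ : powOver f n ⟶ H) (e : Over.mk g ≅ H),
      HilbD.IsUniversal f n H Z ∧ HilbD.pull f Φ Z.1 = powIdeal f n ∧ q ≫ e.hom.left = Φ.left ∧
        Mor2.IsFinLocFreeOfDeg n.factorial Φ.left := by
  obtain ⟨H, Z, hZ⟩ := representable f hAF n
  obtain ⟨Φ, hΦ, -⟩ := hZ (powOver f n) (powObj f n)
  have hs := isSymProd_classify f (representable f hAF) n H Z hZ Φ hΦ
  obtain ⟨e, he⟩ := IsQuot25.exists_iso hq.isQuot hs.isQuot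
  have hw : e.hom ≫ H.hom = g := IsQuot25.hom_ext hq.isQuot (by
    rw [reassoc_of% he]
    exact hs.over.trans hq.over.symm)
  exact ⟨H, Z, Φ, Over.isoMk e hw, hZ, hΦ, he,
    isFinLocFreeOfDeg_classify f (representable f hAF) n H Z hZ Φ hΦ⟩

theorem isProper_and_smooth (hAF : SymProd.IsAF f) (n : ℕ) (q : SymProd.fibPow f n ⟶ Y) (g : Y ⟶ S)
    (hq : SymProd.IsSymProd f n q g) : IsProper g ∧ Smooth g := by
  obtain ⟨H, Z, Φ, e, hZ, -, -, -⟩ := exists_hilb_iso f hAF n q g hq
  have hrep := representable f hAF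
  haveI : Smooth H.hom := CurveCartier25.smooth_hilb f hrep n H Z hZ
  haveI : UniversallyClosed H.hom := CurveCartier25.universallyClosed_hilb f hrep n H Z hZ
  haveI : IsSeparated H.hom := S1167.result f n H Z hZ
  haveI : IsIso e.hom.left := ((Over.forget S).mapIso e).isIso_hom
  have hg : e.hom.left ≫ H.hom = g := Over.w e.hom
  have hp : IsProper (e.hom.left ≫ H.hom) := by
    haveI : IsProper H.hom := {}
    infer_instance
  rw [← hg]
  exact ⟨hp, inferInstance⟩

theorem isFinLocFreeOfDeg_quotientMap (hAF : SymProd.IsAF f) (n : ℕ) (q : SymProd.fibPow f n ⟶ Y)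
    (g : Y ⟶ S) (hq : SymProd.IsSymProd f n q g) : Mor2.IsFinLocFreeOfDeg n.factorial q := by
  obtain ⟨H, Z, Φ, e, -, -, hqe, hdeg⟩ := exists_hilb_iso f hAF n q g hq
  haveI : IsIso e.hom.left := ((Over.forget S).mapIso e).isIso_hom
  have h : q = Φ.left ≫ inv e.hom.left := by rw [IsIso.eq_comp_inv, hqe]
  rw [h]
  exact isFinLocFreeOfDeg_comp_iso hdeg _

/-- The symmetric power with the transported universal family. -/
theorem exists_universal (hAF : SymProd.IsAF f) (n : ℕ) (q : SymProd.fibPow f n ⟶ Y) (g : Y ⟶ S)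
    (hq : SymProd.IsSymProd f n q g) :
    ∃ D : HilbD.Obj f n (Over.mk g), HilbD.IsUniversal f n (Over.mk g) D ∧
      HilbD.pull f (Over.homMk q hq.over : powOver f n ⟶ Over.mk g) D.1 = powIdeal f n := by
  obtain ⟨H, Z, Φ, e, hZ, hΦ, hqe, -⟩ := exists_hilb_iso f hAF n q g hq
  refine ⟨⟨_, HilbBC25.isFinLocFreeOfDeg_pull f n e.hom Z.1 Z.2⟩, fun T Z' => ?_, ?_⟩
  · obtain ⟨h, hh, huniq⟩ := hZ T Z'
    refine ⟨h ≫ e.inv, ?_, fun k hk => ?_⟩
    · show HilbD.pull f (h ≫ e.inv) (HilbD.pull f e.hom Z.1) = Z'.1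
      rw [← HilbBC25.pull_comp, Category.assoc, e.inv_hom_id, Category.comp_id]
      exact hh
    · rw [Iso.eq_comp_inv]
      refine huniq _ ?_
      show HilbD.pull f (k ≫ e.hom) Z.1 = Z'.1
      rw [HilbBC25.pull_comp]
      exact hk
  · show HilbD.pull f _ (HilbD.pull f e.hom Z.1) = _
    rw [← HilbBC25.pull_comp, ← hΦ]
    congr 1
    ext
    exact hqe

theorem existsUnique_descent (hAF : SymProd.IsAF f) (n : ℕ) (q : SymProd.fibPow f n ⟶ Y) (g : Y ⟶ S)
    (hq : SymProd.IsSymProd f n q g)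
    (c : pullback (WidePullback.base fun _ : Fin n => f) f ⟶ pullback g f)
    (hc₁ : c ≫ pullback.fst g f = pullback.fst (WidePullback.base fun _ : Fin n => f) f ≫ q)
    (hc₂ : c ≫ pullback.snd g f = pullback.snd (WidePullback.base fun _ : Fin n => f) f)
    (σ : Fin n → (SymProd.fibPow f n ⟶ pullback (WidePullback.base fun _ : Fin n => f) f))
    (hσ₁ : ∀ i, σ i ≫ pullback.fst _ _ = 𝟙 _)
    (hσ₂ : ∀ i, σ i ≫ pullback.snd _ _ = WidePullback.π (fun _ : Fin n => f) i) :
    (∃! J : (pullback g f).IdealSheafData, J.comap c = ∏ i : Fin n, (σ i).ker) ∧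
    ∀ J : (pullback g f).IdealSheafData, J.comap c = ∏ i : Fin n, (σ i).ker →
      Mor2.IsFinLocFreeOfDeg n (J.subschemeι ≫ pullback.fst g f) := by
  obtain ⟨D, -, hD⟩ := exists_universal f hAF n q g hq
  let ψ : powOver f n ⟶ Over.mk g := Over.homMk q hq.over
  let sP : pullback (WidePullback.base fun _ : Fin n => f) f ≅ PicF.XT f (powOver f n) :=
    pullbackSymmetry _ _
  let sY : pullback g f ≅ PicF.XT f (Over.mk g) := pullbackSymmetry _ _
  have hcs : c ≫ sY.hom = sP.hom ≫ PicF.XTmap f ψ := by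
    apply pullback.hom_ext
    · rw [Category.assoc, Category.assoc, HilbBC25.XTmap_fst]
      exact ((congrArg (c ≫ ·) (pullbackSymmetry_hom_comp_fst g f)).trans hc₂).trans
        (pullbackSymmetry_hom_comp_fst _ _).symm
    · have h1 : sY.hom ≫ PicF.XTproj f (Over.mk g) = pullback.fst g f :=
        pullbackSymmetry_hom_comp_snd g f
      have h2 : sP.hom ≫ PicF.XTproj f (powOver f n) =
          pullback.fst (WidePullback.base fun _ : Fin n => f) f := pullbackSymmetry_hom_comp_snd _ _
      show (c ≫ sY.hom) ≫ PicF.XTproj f (Over.mk g) =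
        (sP.hom ≫ PicF.XTmap f ψ) ≫ PicF.XTproj f (Over.mk g)
      rw [Category.assoc, h1, hc₁, Category.assoc, HilbBC25.XTmap_snd, reassoc_of% h2]
      rfl
  have hsec : ∀ i, (HilbD.secGraph f (powOver f n) (WidePullback.π (fun _ : Fin n => f) i)
      (pow_π_comp f n i)).comap sP.hom = (σ i).ker := fun i => by
    haveI := CurveCartier25.isClosedImmersion_graph f (powOver f n) _ (pow_π_comp f n i)
    exact CurveCartier25.comap_ker_section (p := PicF.XTproj f (powOver f n))
      (p' := pullback.fst (WidePullback.base fun _ : Fin n => f) f) (b := 𝟙 _)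
      (IsPullback.of_horiz_isIso ⟨(pullbackSymmetry_hom_comp_snd _ _).trans (Category.comp_id _).symm⟩)
      _ (σ i) (pullback.lift_snd _ _ _) (hσ₁ i) (by
        apply pullback.hom_ext
        · rw [Category.id_comp, Category.assoc, pullback.lift_fst]
          exact (congrArg (σ i ≫ ·) (pullbackSymmetry_hom_comp_fst _ _)).trans (hσ₂ i)
        · rw [Category.id_comp, Category.assoc, pullback.lift_snd]
          exact (congrArg (σ i ≫ ·) (pullbackSymmetry_hom_comp_snd _ _)).trans (hσ₁ i))
  have hex : (D.1.comap sY.hom).comap c = ∏ i : Fin n, (σ i).ker := by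
    have h2 : D.1.comap (PicF.XTmap f ψ) = powIdeal f n := by
      rw [← HilbBC25.pull_eq_comap]; exact hD
    rw [← Scheme.IdealSheafData.comap_comp, hcs, Scheme.IdealSheafData.comap_comp, h2, powIdeal,
      CurveCartier25.comap_prod]
    exact Finset.prod_congr rfl fun i _ => hsec i
  obtain ⟨⟨hf₁, hf₂, hf₃⟩, hd⟩ := isFinLocFreeOfDeg_quotientMap f hAF n q g hq
  haveI : IsFinite q := hf₁
  haveI : Flat q := hf₂
  haveI hqs : Surjective q := (Scheme.Hom.one_le_finrank_iff_surjective q).1 fun y => by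
    rw [hd y]; exact Nat.factorial_pos n
  have hcc : c = sP.hom ≫ PicF.XTmap f ψ ≫ sY.inv := by rw [← reassoc_of% hcs, Iso.hom_inv_id, Category.comp_id]
  haveI : Flat (PicF.XTmap f ψ) :=
    MorphismProperty.of_isPullback (P := @Flat) (HilbBC25.isPullback_XTmap f ψ).flip hf₂
  haveI : Surjective (PicF.XTmap f ψ) :=
    MorphismProperty.of_isPullback (P := @Surjective) (HilbBC25.isPullback_XTmap f ψ).flip hqs
  haveI : Flat c := by rw [hcc]; infer_instance
  haveI : Surjective c := by rw [hcc]; infer_instance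
  have huniq : ∀ J : (pullback g f).IdealSheafData, J.comap c = ∏ i : Fin n, (σ i).ker →
      J = D.1.comap sY.hom := fun J hJ =>
    SchImage14.comap_injective_of_flat_surjective c (hJ.trans hex.symm)
  refine ⟨⟨_, hex, huniq⟩, fun J hJ => ?_⟩
  rw [huniq J hJ]
  have hsq : IsPullback ((D.1.comapIso sY.hom).hom ≫ pullback.snd _ _)
      (D.1.comap sY.hom).subschemeι D.1.subschemeι sY.hom := by
    refine IsPullback.of_iso (IsPullback.of_hasPullback sY.hom D.1.subschemeι).flip
      (D.1.comapIso sY.hom).symm (Iso.refl _) (Iso.refl _) (Iso.refl _) (by simp [-Scheme.IdealSheafData.comapIso_hom_snd]) ?_ (by simp) (by simp)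
    rw [Iso.refl_hom, Category.comp_id, Iso.symm_hom, Scheme.IdealSheafData.comapIso_inv_subschemeι]
  refine HilbBC25.isFinLocFreeOfDeg_of_isPullback
    (hsq.paste_vert (IsPullback.of_horiz_isIso (fst := sY.hom) (snd := pullback.fst g f)
      (f := PicF.XTproj f (Over.mk g)) (g := 𝟙 _) ⟨?_⟩)) D.2
  exact (pullbackSymmetry_hom_comp_snd g f).trans (Category.comp_id _).symm

end Groth.Agent.SymCurve14
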