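import Groth.Prelude.Def_Mor2
import Groth.Agent.Lib.HilbBC25.Basic
import Groth.Agent.Lib.RRKL13.Rank

/-!
# Degrees of composites of finite locally free morphisms
-/

set_option autoImplicit false
set_option linter.style.haveILetI false
set_option backward.isDefEq.respectTransparency.types false

universe u

open CategoryTheory CategoryTheory.Limits AlgebraicGeometry

namespace Groth.Agent.SymCurve14

/-- Degrees multiply in a composite of finite locally free morphisms. -/
theorem isFinLocFreeOfDeg_comp {X Y Z : Scheme.{u}} {a : X ⟶ Y} {b : Y ⟶ Z} {m k : ℕ}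
    (ha : Mor2.IsFinLocFreeOfDeg m a) (hb : Mor2.IsFinLocFreeOfDeg k b) :
    Mor2.IsFinLocFreeOfDeg (m * k) (a ≫ b) := by
  haveI := ha.1.1
  haveI := ha.1.2.1
  haveI := ha.1.2.2
  haveI := hb.1.1
  haveI := hb.1.2.1
  haveI := hb.1.2.2
  refine ⟨⟨inferInstance, inferInstance, inferInstance⟩, fun z => ?_⟩
  let c := Z.fromSpecResidueField z
  let b' := pullback.snd b c
  let a' := pullback.snd a (pullback.fst b c)
  have hsq : IsPullback (pullback.fst a (pullback.fst b c)) (a' ≫ b') (a ≫ b) c :=
    (IsPullback.of_hasPullback a (pullback.fst b c)).paste_vert (IsPullback.of_hasPullback b c)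
  have hz : ∀ w, c w = z := fun w => Scheme.fromSpecResidueField_apply z w
  have hb' : ∀ w, b'.finrank w = k := fun w => by
    rw [Scheme.Hom.finrank_pullback_snd, hb.2]
  have ha' : ∀ y, a'.finrank y = m := fun y => by
    rw [Scheme.Hom.finrank_pullback_snd, ha.2]
  let w : Spec (Z.residueField z) := IsLocalRing.closedPoint _
  have h1 := Scheme.Hom.finrank_of_isPullback _ _ _ _ hsq w
  rw [hz] at h1
  have h2 := RRKL13.finrank_comp (k := Z.residueField z) a' b' m ha' w
  rw [hb'] at h2
  exact h1.symm.trans h2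

/-- Transport of the degree along an isomorphism of the target. -/
theorem isFinLocFreeOfDeg_comp_iso {X Y Y' : Scheme.{u}} {a : X ⟶ Y} {d : ℕ}
    (ha : Mor2.IsFinLocFreeOfDeg d a) (e : Y ⟶ Y') [IsIso e] :
    Mor2.IsFinLocFreeOfDeg d (a ≫ e) :=
  HilbBC25.isFinLocFreeOfDeg_of_isPullback
    (IsPullback.of_horiz_isIso (fst := 𝟙 X) (snd := a ≫ e) (f := a) (g := inv e) ⟨by simp⟩) ha

end Groth.Agent.SymCurve14
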