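import Groth.Prelude.Def_SymProd
import Groth.Agent.Lib.CurveCartier25.Proper
import Groth.Agent.Lib.CurveCartier25.Split
import Groth.Agent.Lib.SymCurve14.Rank

/-!
# The classifying map of the fibre power of a smooth curve to its Hilbert scheme
-/

set_option autoImplicit false
set_option linter.style.haveILetI false
set_option backward.isDefEq.respectTransparency.types false

universe u

open CategoryTheory CategoryTheory.Limits AlgebraicGeometry

namespace Groth.Agent.SymCurve14

variable {X S : Scheme.{u}} (f : X ⟶ S) (n : ℕ)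

/-- The fibre power as an object over the base. -/
noncomputable abbrev powOver : Over S := Over.mk (WidePullback.base fun _ : Fin n => f)

theorem pow_π_comp (i : Fin n) :
    WidePullback.π (fun _ : Fin n => f) i ≫ f = (powOver f n).hom :=
  WidePullback.π_arrow (fun _ : Fin n => f) i

/-- The sum of the tautological points of the fibre power. -/
noncomputable def powIdeal : (PicF.XT f (powOver f n)).IdealSheafData :=
  ∏ i : Fin n, HilbD.secGraph f (powOver f n) (WidePullback.π (fun _ : Fin n => f) i) (pow_π_comp f n i)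

theorem pull_one {T T' : Over S} (g : T' ⟶ T) :
    HilbD.pull f g (1 : (PicF.XT f T).IdealSheafData) = 1 := by
  rw [HilbBC25.pull_eq_comap, CurveCartier25.comap_one]

theorem pull_prod {T T' : Over S} (g : T' ⟶ T) {ι : Type*} (s : Finset ι)
    (J : ι → (PicF.XT f T).IdealSheafData) :
    HilbD.pull f g (∏ i ∈ s, J i) = ∏ i ∈ s, HilbD.pull f g (J i) := by
  simp only [HilbBC25.pull_eq_comap]
  exact CurveCartier25.comap_prod _ s J

/-- The projection forgetting the last factor. -/
noncomputable def projInit : SymProd.fibPow f (n + 1) ⟶ SymProd.fibPow f n :=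
  WidePullback.lift (WidePullback.base _)
    (fun i => WidePullback.π (fun _ : Fin (n + 1) => f) i.castSucc)
    (fun i => WidePullback.π_arrow (fun _ : Fin (n + 1) => f) i.castSucc)

theorem projInit_π (i : Fin n) :
    projInit f n ≫ WidePullback.π (fun _ : Fin n => f) i =
      WidePullback.π (fun _ : Fin (n + 1) => f) i.castSucc :=
  WidePullback.lift_π _ _ _ _ _

theorem projInit_base :
    projInit f n ≫ WidePullback.base (fun _ : Fin n => f) =
      WidePullback.base (fun _ : Fin (n + 1) => f) :=
  WidePullback.lift_base _ _ _ _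

/-- The projection as a morphism over the base. -/
noncomputable def projOver : powOver f (n + 1) ⟶ powOver f n :=
  Over.homMk (projInit f n) (projInit_base f n)

theorem isPullback_projInit :
    IsPullback (WidePullback.π (fun _ : Fin (n + 1) => f) (Fin.last n)) (projInit f n) f
      (WidePullback.base fun _ : Fin n => f) := by
  have w : WidePullback.π (fun _ : Fin (n + 1) => f) (Fin.last n) ≫ f =
      projInit f n ≫ WidePullback.base (fun _ : Fin n => f) :=
    (WidePullback.π_arrow _ _).trans (projInit_base f n).symm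
  refine IsPullback.of_isLimit' ⟨w⟩ (PullbackCone.IsLimit.mk w
    (fun s => WidePullback.lift (s.snd ≫ WidePullback.base _)
      (Fin.lastCases s.fst fun i => s.snd ≫ WidePullback.π (fun _ : Fin n => f) i)
      (fun j => Fin.lastCases (by simpa using s.condition) (fun i => by simp) j))
    (fun s => (WidePullback.lift_π _ _ _ _ _).trans Fin.lastCases_last) (fun s => ?_) (fun s m h1 h2 => ?_))
  · apply WidePullback.hom_ext
    · intro i
      rw [Category.assoc, projInit_π, WidePullback.lift_π, Fin.lastCases_castSucc]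
    · rw [Category.assoc, projInit_base, WidePullback.lift_base]
  · apply WidePullback.hom_ext
    · intro i
      rw [WidePullback.lift_π]
      induction i using Fin.lastCases with
      | last => rw [Fin.lastCases_last]; exact h1
      | cast j => rw [Fin.lastCases_castSucc, ← projInit_π f n j, reassoc_of% h2]
    · rw [WidePullback.lift_base, ← projInit_base f n, reassoc_of% h2]

variable [IsSeparated f] [SmoothOfRelativeDimension 1 f]

theorem isFinLocFreeOfDeg_prod_secGraph (T : Over S) {ι : Type*} (s : Finset ι)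
    (x : ι → (T.left ⟶ X)) (hx : ∀ i, x i ≫ f = T.hom) :
    Mor2.IsFinLocFreeOfDeg s.card
      ((∏ i ∈ s, HilbD.secGraph f T (x i) (hx i)).subschemeι ≫ PicF.XTproj f T) := by
  classical
  haveI := CurveCartier25.smooth_XTproj f T
  induction s using Finset.induction_on with
  | empty =>
    rw [Finset.prod_empty, Finset.card_empty, CurveCartier25.one_eq_top]
    exact CurveCartier25.isFinLocFreeOfDeg_top _
  | insert a s ha ih =>
    rw [Finset.prod_insert ha, Finset.card_insert_of_notMem ha, Nat.add_comm]
    exact CurveCartier25.isFinLocFreeOfDeg_mul (PicF.XTproj f T) _ _ 1 s.card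
      (CurveCartier25.isFinLocFreeOfDeg_one_section (PicF.XTproj f T)
        (pullback.lift (x a) (𝟙 T.left) (by simpa using hx a)) (pullback.lift_snd _ _ _)) ih

/-- The tautological family on the fibre power. -/
noncomputable def powObj : HilbD.Obj f n (powOver f n) :=
  ⟨powIdeal f n, by
    have h := isFinLocFreeOfDeg_prod_secGraph f (powOver f n) (Finset.univ : Finset (Fin n))
      (fun i => WidePullback.π (fun _ : Fin n => f) i) (pow_π_comp f n)
    rwa [Finset.card_univ, Fintype.card_fin] at h⟩

omit [SmoothOfRelativeDimension 1 f] in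
theorem pull_powIdeal {T : Over S} (g : T ⟶ powOver f n) :
    HilbD.pull f g (powIdeal f n) = ∏ i : Fin n, HilbD.secGraph f T
      (g.left ≫ WidePullback.π (fun _ : Fin n => f) i)
      (by rw [Category.assoc, pow_π_comp, Over.w]) := by
  rw [powIdeal, pull_prod]
  exact Finset.prod_congr rfl fun i _ => CurveCartier25.pull_secGraph f g _ _

/-- The permutation as a morphism over the base. -/
noncomputable def permOver (σ : Equiv.Perm (Fin n)) : powOver f n ⟶ powOver f n :=
  Over.homMk (SymProd.permHom f n σ) (SymProd.permHom_base f n σ)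

omit [SmoothOfRelativeDimension 1 f] in
theorem pull_permOver (σ : Equiv.Perm (Fin n)) :
    HilbD.pull f (permOver f n σ) (powIdeal f n) = powIdeal f n := by
  rw [pull_powIdeal]
  calc _ = ∏ i : Fin n, HilbD.secGraph f (powOver f n)
        (WidePullback.π (fun _ : Fin n => f) (σ.symm i)) (pow_π_comp f n _) :=
      Finset.prod_congr rfl fun i _ =>
        CurveCartier25.secGraph_congr f _ _ (SymProd.permHom_π f n σ i)
    _ = powIdeal f n := Equiv.prod_comp σ.symm fun i => HilbD.secGraph f (powOver f n)
        (WidePullback.π (fun _ : Fin n => f) i) (pow_π_comp f n i)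

theorem permHom_comp_classify {H : Over S} {Z : HilbD.Obj f n H} (hZ : HilbD.IsUniversal f n H Z)
    (Φ : powOver f n ⟶ H) (hΦ : HilbD.pull f Φ Z.1 = powIdeal f n) (σ : Equiv.Perm (Fin n)) :
    SymProd.permHom f n σ ≫ Φ.left = Φ.left := by
  have h : permOver f n σ ≫ Φ = Φ := by
    refine (hZ (powOver f n) (powObj f n)).unique ?_ hΦ
    show HilbD.pull f (permOver f n σ ≫ Φ) Z.1 = powIdeal f n
    rw [HilbBC25.pull_comp, hΦ, pull_permOver]
  exact congrArg CommaMorphism.left h

/-- The classifying map is finite locally free of degree `n!`. -/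
theorem isFinLocFreeOfDeg_classify (hrep : ∀ e : ℕ, HilbD.Representable f e) :
    ∀ (n : ℕ) (H : Over S) (Z : HilbD.Obj f n H), HilbD.IsUniversal f n H Z →
      ∀ Φ : powOver f n ⟶ H, HilbD.pull f Φ Z.1 = powIdeal f n →
        Mor2.IsFinLocFreeOfDeg n.factorial Φ.left := by
  intro n
  induction n with
  | zero =>
    intro H Z hZ Φ _
    have huniq : ∀ (T : Over S) (a b : T ⟶ H), a = b := fun T a b => by
      haveI := CurveCartier25.smooth_XTproj f T
      exact (hZ T ⟨⊤, CurveCartier25.isFinLocFreeOfDeg_top _⟩).unique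
        (CurveCartier25.eq_top_of_deg_zero _ _ (HilbBC25.isFinLocFreeOfDeg_pull f 0 a Z.1 Z.2))
        (CurveCartier25.eq_top_of_deg_zero _ _ (HilbBC25.isFinLocFreeOfDeg_pull f 0 b Z.1 Z.2))
    let sec : S ⟶ SymProd.fibPow f 0 := WidePullback.lift (𝟙 S) (fun i => i.elim0) (fun i => i.elim0)
    have hsec : sec ≫ WidePullback.base (fun _ : Fin 0 => f) = 𝟙 S := WidePullback.lift_base _ _ _ _
    let θ : H ⟶ powOver f 0 := Over.homMk (H.hom ≫ sec)
      ((Category.assoc _ _ _).trans ((congrArg (H.hom ≫ ·) hsec).trans (Category.comp_id _)))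
    have hθΦ : θ ≫ Φ = 𝟙 H := huniq _ _ _
    have hΦθ : Φ ≫ θ = 𝟙 _ := by
      ext
      apply WidePullback.hom_ext
      · exact fun i => i.elim0
      · exact (Over.w (Φ ≫ θ)).trans (Category.id_comp _).symm
    haveI : IsIso Φ.left := ⟨θ.left, congrArg CommaMorphism.left hΦθ, congrArg CommaMorphism.left hθΦ⟩
    exact ⟨⟨inferInstance, inferInstance, inferInstance⟩, fun y => by
      rw [Scheme.Hom.finrank_eq_one_of_isIso]; rfl⟩
  | succ n ih =>
    intro H' Z' hZ' Φ' hΦ'
    obtain ⟨H, Z, hZ⟩ := hrep n
    obtain ⟨Φ, hΦ₀, -⟩ := hZ (powOver f n) (powObj f n)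
    have hΦ : HilbD.pull f Φ Z.1 = powIdeal f n := hΦ₀
    have hdeg := ih H Z hZ Φ hΦ
    let T : Over S := Over.mk (pullback.fst H.hom f ≫ H.hom)
    let π : T ⟶ H := Over.homMk (pullback.fst H.hom f) rfl
    let xT : T.left ⟶ X := pullback.snd H.hom f
    have hxT : xT ≫ f = T.hom := pullback.condition.symm
    haveI := CurveCartier25.smooth_XTproj f T
    have hP : Mor2.IsFinLocFreeOfDeg (n + 1)
        ((HilbD.pull f π Z.1 * HilbD.secGraph f T xT hxT).subschemeι ≫ PicF.XTproj f T) :=
      CurveCartier25.isFinLocFreeOfDeg_mul (PicF.XTproj f T) _ _ n 1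
        (HilbBC25.isFinLocFreeOfDeg_pull f n π Z.1 Z.2)
        (CurveCartier25.isFinLocFreeOfDeg_one_section (PicF.XTproj f T)
          (pullback.lift xT (𝟙 T.left) (by simpa using hxT)) (pullback.lift_snd _ _ _))
    obtain ⟨m, hm, -⟩ := hZ' T ⟨_, hP⟩
    have hmdeg := CurveCartier25.isFinLocFreeOfDeg_addPoint f n H Z hZ H' Z' hZ' m hm
    have hw : (projInit f n ≫ Φ.left) ≫ H.hom =
        WidePullback.π (fun _ : Fin (n + 1) => f) (Fin.last n) ≫ f := by
      rw [Category.assoc, Over.w Φ]
      exact (projInit_base f n).trans (WidePullback.π_arrow _ _).symm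
    let ψ : powOver f (n + 1) ⟶ T := Over.homMk
      (pullback.lift (projInit f n ≫ Φ.left)
        (WidePullback.π (fun _ : Fin (n + 1) => f) (Fin.last n)) hw)
      (by
        show pullback.lift _ _ hw ≫ pullback.fst H.hom f ≫ H.hom = _
        rw [pullback.lift_fst_assoc, hw]
        exact WidePullback.π_arrow _ _)
    have hψπ : ψ ≫ π = projOver f n ≫ Φ := by
      ext; exact pullback.lift_fst _ _ _
    have hψx : ψ.left ≫ xT = WidePullback.π (fun _ : Fin (n + 1) => f) (Fin.last n) :=
      pullback.lift_snd _ _ _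
    have hcomp : Φ' = ψ ≫ m := by
      refine (hZ' (powOver f (n + 1)) (powObj f (n + 1))).unique hΦ' ?_
      show HilbD.pull f (ψ ≫ m) Z'.1 = powIdeal f (n + 1)
      rw [HilbBC25.pull_comp, hm]
      show HilbD.pull f ψ (HilbD.pull f π Z.1 * HilbD.secGraph f T xT hxT) = _
      rw [CurveCartier25.pull_mul, ← HilbBC25.pull_comp, hψπ, HilbBC25.pull_comp, hΦ,
        pull_powIdeal, CurveCartier25.pull_secGraph, powIdeal, Fin.prod_univ_castSucc]
      congr 1
      · exact Finset.prod_congr rfl fun i _ =>
          CurveCartier25.secGraph_congr f _ _ (projInit_π f n i)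
      · exact CurveCartier25.secGraph_congr f _ _ hψx
    have hsq : IsPullback ψ.left (projInit f n) (pullback.fst H.hom f) Φ.left := by
      refine IsPullback.of_right (h₁₂ := pullback.snd H.hom f) (v₁₃ := f) (h₂₂ := H.hom) ?_
        (congrArg CommaMorphism.left hψπ) (IsPullback.of_hasPullback H.hom f).flip
      rw [Over.w Φ]
      show IsPullback (ψ.left ≫ xT) _ _ _
      rw [hψx]
      exact isPullback_projInit f n
    have hψdeg : Mor2.IsFinLocFreeOfDeg n.factorial ψ.left :=
      HilbBC25.isFinLocFreeOfDeg_of_isPullback hsq.flip hdeg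
    rw [hcomp, Nat.factorial_succ, Nat.mul_comm]
    exact isFinLocFreeOfDeg_comp hψdeg hmdeg

end Groth.Agent.SymCurve14
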